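import Groth.Agent.Lib.PullHom22.Map
import Groth.Agent.Lib.RHomInj22.Coherent
import Groth.Agent.Lib.OX.CohRHom

/-! # `f^* Ext^p(F, G) = Ext^p(f^* F, f^* G)` for flat `f` and coherent `F` -/

set_option autoImplicit false
set_option maxHeartbeats 1000000
universe u

open CategoryTheory CategoryTheory.Limits CategoryTheory.Pretriangulated AlgebraicGeometry HomologicalComplex

attribute [local instance] HasDerivedCategory.standard

namespace GrothLib.PullHom22

open GrothLib.OX

variable {X Y : Scheme.{u}} {f : X ⟶ Y}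

theorem isZero_Q_of_homology {Z : Scheme.{u}} {K : CochainComplex Z.Modules ℤ} {i : ℤ} (h : IsZero (K.homology i)) :
    IsZero (DCoh.HD (DerivedCategory.Q.obj K) i) :=
  h.of_iso ((DerivedCategory.homologyFunctorFactors Z.Modules i).app K)

theorem isZero_homology_of_Q {Z : Scheme.{u}} {K : CochainComplex Z.Modules ℤ} {i : ℤ}
    (h : IsZero (DCoh.HD (DerivedCategory.Q.obj K) i)) : IsZero (K.homology i) :=
  h.of_iso ((DerivedCategory.homologyFunctorFactors Z.Modules i).app K).symm

theorem isZero_resCx_homology {U Z : Scheme.{u}} (j : U ⟶ Z) [IsOpenImmersion j] {K : CochainComplex Z.Modules ℤ}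
    {i : ℤ} (h : IsZero (K.homology i)) : IsZero (((resCx j).obj K).homology i) :=
  ((Scheme.Modules.restrictFunctor j).map_isZero h).of_iso ((K.sc i).mapHomologyIso (Scheme.Modules.restrictFunctor j))

theorem quasiIso_resCx_ιTruncLE {U Z : Scheme.{u}} (j : U ⟶ Z) [IsOpenImmersion j] {K : CochainComplex Z.Modules ℤ}
    {n : ℤ} (hK : ∀ i, n < i → IsZero (((resCx j).obj K).homology i)) : QuasiIso ((resCx j).map (K.ιTruncLE n)) := by
  refine ⟨fun i => ?_⟩
  by_cases hi : i ≤ n
  · have : QuasiIsoAt (K.ιTruncLE n) i := K.quasiIsoAt_ιTruncLE n i hi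
    exact inferInstance
  · rw [quasiIsoAt_iff_isIso_homologyMap]
    exact ⟨0, (isZero_resCx_homology j ((HomologicalComplex.exactAt_iff_isZero_homology _ _).1
      (((K.truncLE n).isLE_iff n).1 inferInstance i (by omega)))).eq_of_src _ _, (hK i (by omega)).eq_of_src _ _⟩

theorem bound_homCx {Z : Scheme.{u}} (K I : CochainComplex Z.Modules ℤ) [I.IsKInjective]
    (hI : ∀ n, Injective (I.X n)) {r c : ℤ} [(DerivedCategory.Q.obj I).IsGE r]
    (hK : ∀ i, c < i → IsZero (K.homology i)) (i : ℤ) (hi : i < r - c) : IsZero (((homCx K).obj I).homology i) := by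
  obtain ⟨P, q, hP, -, hq, -⟩ := exists_kflat_resolution K
  have := hasLTensorCx P
  have := hasRSheafHom P
  have h2 : IsIso (DerivedCategory.Q.map (homMap q I)) := DualPerf22.isIso_Q_homMap q hq I hI
  obtain ⟨v⟩ := nonempty_RSheafHom_value P hP I
  exact isZero_homology_of_Q ((isZero_HD_RSheafHom_of_lt P (fun k hk => (hK k hk).of_iso (isoOfQuasiIsoAt q k)) _ r i hi).of_iso
    ((DerivedCategory.homologyFunctor _ i).mapIso (asIso (DerivedCategory.Q.map (homMap q I)) ≪≫ v.symm)))

variable {U W : Scheme.{u}} (j : U ⟶ Y) [IsOpenImmersion j] (i : W ⟶ X) [IsOpenImmersion i]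
  {J : CochainComplex Y.Modules ℤ} {B : CochainComplex X.Modules ℤ} (β : (pullCxF f).obj J ⟶ B)

theorem bound_both [Flat f] {f' : W ⟶ U} [Flat f'] (w : f' ≫ j = i ≫ f) [J.IsKInjective] [B.IsKInjective]
    (hJ : ∀ n, Injective (J.X n)) (hB : ∀ n, Injective (B.X n))
    [(DerivedCategory.Q.obj J).IsGE 0] [(DerivedCategory.Q.obj B).IsGE 0]
    {Z : CochainComplex Y.Modules ℤ} {c : ℤ} (hZ : ∀ k, c < k → IsZero (((resCx j).obj Z).homology k))
    (k : ℤ) (hk : k < -c) :
    IsZero (((resCx i).obj ((pullCxF f).obj ((homCx Z).obj J))).homology k) ∧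
      IsZero (((resCx i).obj ((homCx ((pullCxF f).obj Z)).obj B)).homology k) := by
  have hq := quasiIso_resCx_ιTruncLE j hZ
  have hZ' : ∀ l, c < l → IsZero ((Z.truncLE c).homology l) := fun l hl =>
    (HomologicalComplex.exactAt_iff_isZero_homology _ _).1 (((Z.truncLE c).isLE_iff c).1 inferInstance l hl)
  have hl := quasiIso_resCx_pullCx j i w (homMap (Z.ιTruncLE c) J) (DualPerf22.quasiIso_resCx_homMap j (Z.ιTruncLE c) hq J hJ)
  have hr := DualPerf22.quasiIso_resCx_homMap i ((pullCxF f).map (Z.ιTruncLE c))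
    (quasiIso_resCx_pullCx j i w (Z.ιTruncLE c) hq) B hB
  haveI := hl.quasiIsoAt k
  haveI := hr.quasiIsoAt k
  exact ⟨(isZero_resCx_homology i (isZero_pullCx_homology (bound_homCx (Z.truncLE c) J hJ (r := 0) hZ' k (by omega)))).of_iso
      (isoOfQuasiIsoAt ((resCx i).map ((pullCxF f).map (homMap (Z.ιTruncLE c) J))) k),
    (isZero_resCx_homology i (bound_homCx ((pullCxF f).obj (Z.truncLE c)) B hB (r := 0)
      (fun l hl => isZero_pullCx_homology (hZ' l hl)) k (by omega))).of_iso
      (isoOfQuasiIsoAt ((resCx i).map (homMap ((pullCxF f).map (Z.ιTruncLE c)) B)) k)⟩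

theorem isIso_homologyMap_of_X₁ {C : Type*} [Category C] [Abelian C] {S : ShortComplex (CochainComplex C ℤ)}
    (hS : S.ShortExact) (p : ℤ) (h : IsZero (S.X₁.homology p)) (h' : IsZero (S.X₁.homology (p + 1))) :
    IsIso (HomologicalComplex.homologyMap S.g p) := by
  have : Mono (HomologicalComplex.homologyMap S.g p) := (hS.homology_exact₂ p).mono_g (h.eq_of_src _ _)
  have : Epi (HomologicalComplex.homologyMap S.g p) :=
    (hS.homology_exact₃ p (p + 1) rfl).epi_f (h'.eq_of_tgt _ _)
  exact isIso_of_mono_of_epi _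

theorem isIso_homologyMap_chi [Flat f] {f' : W ⟶ U} [Flat f'] (w : f' ≫ j = i ≫ f) [J.IsKInjective] [B.IsKInjective]
    (hJ : ∀ n, Injective (J.X n)) (hB : ∀ n, Injective (B.X n))
    [(DerivedCategory.Q.obj J).IsGE 0] [(DerivedCategory.Q.obj B).IsGE 0]
    {E P : CochainComplex Y.Modules ℤ} (g₀ : E ⟶ P) (n p : ℤ)
    (hg₀ : DerCat.Good (DerivedCategory.Q.map ((resCx j).map g₀)) n) (hn : p + 1 < -(n - 1))
    (hE : QuasiIso ((resCx i).map (chi f J β E))) :
    IsIso (HomologicalComplex.homologyMap ((resCx i).map (chi f J β P)) p) := by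
  let M := CochainComplex.mappingCone (𝟙 E)
  have hM : M.Acyclic := (DerCat.quasiIso_iff_acyclic_mappingCone (𝟙 E)).1 inferInstance
  let g : E ⟶ P ⊞ M := biprod.lift g₀ (CochainComplex.mappingCone.inr (𝟙 E))
  let σ : (ShortComplex.mk (biprod.inr : M ⟶ P ⊞ _) biprod.fst biprod.inr_fst).Splitting :=
    { r := biprod.snd, s := biprod.inl, f_r := biprod.inr_snd, s_g := biprod.inl_fst
      id := (add_comm _ _).trans biprod.total }
  let q : P ⊞ M ⟶ P := biprod.fst
  have hq : QuasiIso ((resCx j).map q) :=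
    DerCat.quasiIso_g_of_acyclic (σ.map (resCx j)).shortExact (acyclic_resCx j hM)
  have hm : Mono g := HomologicalComplex.mono_of_mono_f g fun n => (SplitMono.mk ((biprod.snd : P ⊞ M ⟶ _).f n ≫
    (CochainComplex.mappingCone.snd (𝟙 E)).v n n (add_zero n)) (by
      rw [← Category.assoc, ← HomologicalComplex.comp_f, biprod.lift_snd, CochainComplex.mappingCone.inr_f_snd_v])).mono
  let S : ShortComplex (CochainComplex Y.Modules ℤ) := ShortComplex.mk g (cokernel.π g) (cokernel.condition g)
  have hS : S.ShortExact := { exact := ShortComplex.exact_of_g_is_cokernel _ (cokernelIsCokernel g) }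
  have hg : DerCat.Good (DerivedCategory.Q.map ((resCx j).map g)) n := by
    have e : DerivedCategory.Q.map ((resCx j).map g) =
        DerivedCategory.Q.map ((resCx j).map g₀) ≫ inv (DerivedCategory.Q.map ((resCx j).map q)) := by
      rw [IsIso.eq_comp_inv, ← Functor.map_comp, ← Functor.map_comp, biprod.lift_fst]
    rw [e]
    exact hg₀.comp (DerCat.good_of_isIso _ n)
  have hX₃ : ∀ k, n - 1 < k → IsZero (((resCx j).obj S.X₃).homology k) := fun k hk =>
    isZero_homology_of_Q ((DerCat.cone_vanish_iff (DerivedCategory.triangleOfSES (shortExact_resCx j hS))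
      (DerivedCategory.triangleOfSES_distinguished _) n).2 ⟨hg.1, hg.2⟩ k (by omega))
  have z₀ := bound_both j i w hJ hB hX₃ p (by omega)
  have z₁ := bound_both j i w hJ hB hX₃ (p + 1) (by omega)
  have i₁ : IsIso (HomologicalComplex.homologyMap ((resCx i).map ((pullCxF f).map (homMap g J))) p) :=
    isIso_homologyMap_of_X₁ (shortExact_resCx i (shortExact_pullCx (DualPerf22.homSeq_shortExact hS J hJ))) p z₀.1 z₁.1
  have i₂ : IsIso (HomologicalComplex.homologyMap ((resCx i).map (homMap ((pullCxF f).map g) B)) p) :=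
    isIso_homologyMap_of_X₁ (shortExact_resCx i (DualPerf22.homSeq_shortExact (shortExact_pullCx hS) B hB)) p z₀.2 z₁.2
  have i₃ : IsIso (HomologicalComplex.homologyMap ((resCx i).map (chi f J β E)) p) :=
    (quasiIsoAt_iff_isIso_homologyMap _ _).1 (hE.quasiIsoAt p)
  have e := congrArg (fun t => HomologicalComplex.homologyMap ((resCx i).map t) p) (chi_natural f J β g)
  simp only [Functor.map_comp, HomologicalComplex.homologyMap_comp] at e
  have i₄ : IsIso (HomologicalComplex.homologyMap ((resCx i).map (chi f J β (P ⊞ M))) p) :=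
    @IsIso.of_isIso_fac_right _ _ _ _ _ _ _ _ i₂ (@IsIso.comp_isIso _ _ _ _ _ _ _ i₁ i₃) e
  have j₁ : IsIso (HomologicalComplex.homologyMap ((resCx i).map ((pullCxF f).map (homMap q J))) p) :=
    (quasiIsoAt_iff_isIso_homologyMap _ _).1
      ((quasiIso_resCx_pullCx j i w (homMap q J) (DualPerf22.quasiIso_resCx_homMap j q hq J hJ)).quasiIsoAt p)
  have j₂ : IsIso (HomologicalComplex.homologyMap ((resCx i).map (homMap ((pullCxF f).map q) B)) p) :=
    (quasiIsoAt_iff_isIso_homologyMap _ _).1
      ((DualPerf22.quasiIso_resCx_homMap i ((pullCxF f).map q) (quasiIso_resCx_pullCx j i w q hq) B hB).quasiIsoAt p)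
  have e' := congrArg (fun t => HomologicalComplex.homologyMap ((resCx i).map t) p) (chi_natural f J β q)
  simp only [Functor.map_comp, HomologicalComplex.homologyMap_comp] at e'
  -- `chi P ≫ hom = pull ≫ chi (P ⊞ M)`
  have i₅ := @IsIso.comp_isIso _ _ _ _ _ _ _ j₁ i₄
  exact @IsIso.of_isIso_fac_right _ _ _ _ _ _ _ _ j₂ i₅ e'

/-- **`chi` is bijective on cohomology for pseudo-coherent `P`.** -/
theorem isIso_homologyMap_chi_global [Flat f] [hβ : QuasiIso β] [J.IsKInjective] [B.IsKInjective]
    (hJ : ∀ n, Injective (J.X n)) (hB : ∀ n, Injective (B.X n))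
    [(DerivedCategory.Q.obj J).IsGE 0] [(DerivedCategory.Q.obj B).IsGE 0]
    (P : CochainComplex Y.Modules ℤ) (hP : ∀ n, DCoh.IsPseudoCoherentD n (DerivedCategory.Q.obj P)) (p : ℤ) :
    IsIso (HomologicalComplex.homologyMap (chi f J β P) p) := by
  refine (isIso_iff _).2 fun x => ?_
  obtain ⟨U, j, _, E, α, hxj, -, ⟨s₀, m, hb⟩, hfree, hiso, hepi⟩ := exists_free_approx_open P (-p - 3) (hP _) (f x)
  let i := pullback.fst f j
  let f' := pullback.snd f j
  have w : f' ≫ j = i ≫ f := pullback.condition.symm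
  haveI : Flat f' := inferInstance
  have hxi : x ∈ Set.range i := by
    rw [Scheme.Pullback.range_fst]
    exact hxj
  obtain ⟨Z, s, hs, g', heq⟩ := DerivedCategory.right_fac α
  have hqs : QuasiIso s := (DerivedCategory.isIso_Q_map_iff_quasiIso _ s).1 hs
  let adj := KInj.mapComplexAdj (CxOX.extZeroAdj j) (ComplexShape.up ℤ)
  let g : (jzCx j).obj Z ⟶ P := (jzCx j).map g' ≫ adj.counit.app P
  have hu : QuasiIso ((resCx j).map ((jzCx j).map s)) :=
    have := isIso_unit_cx j Z
    have := isIso_unit_cx j E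
    (quasiIso_iff_of_arrow_mk_iso s _ (Arrow.isoMk (asIso (adj.unit.app Z)) (asIso (adj.unit.app E))
      (adj.unit.naturality s).symm)).1 hqs
  have hgg : adj.unit.app Z ≫ (resCx j).map g = g' :=
    ((adj.homEquiv_unit _ _ _).symm.trans (congrArg _ (adj.homEquiv_counit _ _ g').symm)).trans
      (Equiv.apply_symm_apply _ _)
  have hg : DerCat.Good (DerivedCategory.Q.map ((resCx j).map g)) (-p - 3) := by
    have := isIso_unit_cx j Z
    have e : DerivedCategory.Q.map ((resCx j).map g) =
        inv (DerivedCategory.Q.map (adj.unit.app Z)) ≫ DerivedCategory.Q.map s ≫ α := by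
      rw [IsIso.eq_inv_comp, ← Functor.map_comp, hgg, heq, IsIso.hom_inv_id_assoc]
    rw [e]
    exact (DerCat.good_of_isIso _ _).comp ((DerCat.good_of_isIso _ _).comp ⟨hiso, hepi⟩)
  have h0 := (devissage_chi β j i w hJ hB).of_bounded m E s₀ hb fun k => Or.inr (hfree k)
  have hE : QuasiIso ((resCx i).map (chi f J β ((jzCx j).obj Z))) :=
    (quasiIso_resCx_chi_iff β j i w hJ hB ((jzCx j).map s) hu).1 h0
  have key := isIso_homologyMap_chi j i β w hJ hB g (-p - 3) p hg (by omega) hE
  have hr : IsIso ((Scheme.Modules.restrictFunctor i).map (HomologicalComplex.homologyMap (chi f J β P) p)) :=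
    (NatIso.isIso_map_iff (ShortComplex.homologyFunctorIso (Scheme.Modules.restrictFunctor i))
      ((HomologicalComplex.shortComplexFunctor X.Modules (ComplexShape.up ℤ) p).map (chi f J β P))).1 key
  obtain ⟨y, rfl⟩ := hxi
  have := mono_stalk_map_of_restrict i (HomologicalComplex.homologyMap (chi f J β P) p) y inferInstance
  have := epi_stalk_map_of_restrict i (HomologicalComplex.homologyMap (chi f J β P) p) y inferInstance
  exact isIso_of_mono_of_epi _

/-- **`f^* Ext^p(F, G) = Ext^p(f^* F, f^* G)`.** -/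
theorem nonempty_pullback_sheafExt [IsLocallyNoetherian Y] (f : X ⟶ Y) [Flat f] (F G : Y.Modules) (hF : Coh.IsCoh F)
    [DCoh.HasLTensorCx ((single Y.Modules (ComplexShape.up ℤ) 0).obj F)]
    [DCoh.HasRSheafHom ((single Y.Modules (ComplexShape.up ℤ) 0).obj F)]
    [DCoh.HasLTensorCx ((single X.Modules (ComplexShape.up ℤ) 0).obj ((Scheme.Modules.pullback f).obj F))]
    [DCoh.HasRSheafHom ((single X.Modules (ComplexShape.up ℤ) 0).obj ((Scheme.Modules.pullback f).obj F))]
    (p : ℤ) :
    Nonempty ((Scheme.Modules.pullback f).obj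
        (DCoh.HD ((DCoh.RSheafHom ((single Y.Modules (ComplexShape.up ℤ) 0).obj F)).obj
          ((DerivedCategory.singleFunctor Y.Modules 0).obj G)) p) ≅
      DCoh.HD ((DCoh.RSheafHom ((single X.Modules (ComplexShape.up ℤ) 0).obj ((Scheme.Modules.pullback f).obj F))).obj
        ((DerivedCategory.singleFunctor X.Modules 0).obj ((Scheme.Modules.pullback f).obj G))) p) := by
  haveI := preservesLimits_of_flat (f := f)
  haveI : PreservesColimitsOfSize.{0, 0} (Scheme.Modules.pullback f) :=
    (Scheme.Modules.pullbackPushforwardAdjunction f).leftAdjoint_preservesColimits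
  let sF := (single Y.Modules (ComplexShape.up ℤ) 0).obj F
  let sG := (single Y.Modules (ComplexShape.up ℤ) 0).obj G
  obtain ⟨P, qP, hP, -, hqP, -⟩ := exists_kflat_resolution sF
  obtain ⟨J, qJ, hqJ, hJK, hJ⟩ := KInj.exists_kInjective_resolution (A := Y.Modules) sG
  obtain ⟨B, β, hβ, hBK, hB⟩ := KInj.exists_kInjective_resolution (A := X.Modules) ((pullCxF f).obj J)
  have := hasLTensorCx P
  have := hasRSheafHom P
  have := hasLTensorCx ((pullCxF f).obj P)
  have := hasRSheafHom ((pullCxF f).obj P)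
  let eJ : DerivedCategory.Q.obj J ≅ (DerivedCategory.singleFunctor Y.Modules 0).obj G :=
    (asIso (DerivedCategory.Q.map qJ)).symm ≪≫ ((DerivedCategory.singleFunctorIsoCompQ Y.Modules 0).app G).symm
  haveI : (DerivedCategory.Q.obj J).IsGE 0 := DerivedCategory.TStructure.t.isGE_of_iso eJ.symm 0
  have hqJ' := quasiIso_pullCx (f := f) qJ hqJ
  let eB : DerivedCategory.Q.obj B ≅ (DerivedCategory.singleFunctor X.Modules 0).obj ((Scheme.Modules.pullback f).obj G) :=
    (asIso (DerivedCategory.Q.map β)).symm ≪≫ (asIso (DerivedCategory.Q.map ((pullCxF f).map qJ))).symm ≪≫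
      DerivedCategory.Q.mapIso ((singleMapHomologicalComplex (Scheme.Modules.pullback f) (ComplexShape.up ℤ) 0).app G) ≪≫
      ((DerivedCategory.singleFunctorIsoCompQ X.Modules 0).app _).symm
  haveI : (DerivedCategory.Q.obj B).IsGE 0 := DerivedCategory.TStructure.t.isGE_of_iso eB.symm 0
  let eP : DerivedCategory.Q.obj P ≅ (DerivedCategory.singleFunctor Y.Modules 0).obj F :=
    asIso (DerivedCategory.Q.map qP) ≪≫ ((DerivedCategory.singleFunctorIsoCompQ Y.Modules 0).app F).symm
  haveI : (DerivedCategory.Q.obj P).IsLE 0 := DerivedCategory.TStructure.t.isLE_of_iso eP.symm 0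
  have hcoh : DCoh.IsCohD (DerivedCategory.Q.obj P) := fun k => by
    refine QCoh.isCoh_of_iso ((DerivedCategory.homologyFunctor _ k).mapIso (asIso (DerivedCategory.Q.map qP)) ≪≫
      (DerivedCategory.homologyFunctorFactors Y.Modules k).app sF).symm ?_
    by_cases hk : k = 0
    · subst hk
      exact QCoh.isCoh_of_iso (HomologicalComplex.singleObjHomologySelfIso (ComplexShape.up ℤ) 0 F).symm hF
    · exact isCoh_of_isZero ((HomologicalComplex.exactAt_iff_isZero_homology _ _).1
        (HomologicalComplex.exactAt_single_obj (ComplexShape.up ℤ) 0 F k hk))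
  have hiso := isIso_homologyMap_chi_global (f := f) β hJ hB P (fun n => isPseudoCoherentD_of_isCohD hcoh 0 n) p
  have hqP' := quasiIso_pullCx (f := f) qP hqP
  let eP' : DerivedCategory.Q.obj ((pullCxF f).obj P) ≅
      DerivedCategory.Q.obj ((single X.Modules (ComplexShape.up ℤ) 0).obj ((Scheme.Modules.pullback f).obj F)) :=
    asIso (DerivedCategory.Q.map ((pullCxF f).map qP)) ≪≫
      DerivedCategory.Q.mapIso ((singleMapHomologicalComplex (Scheme.Modules.pullback f) (ComplexShape.up ℤ) 0).app F)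
  obtain ⟨cY⟩ := nonempty_RSheafHom_congr (E := P) (E' := sF) (asIso (DerivedCategory.Q.map qP))
  obtain ⟨cX⟩ := nonempty_RSheafHom_congr (E := (pullCxF f).obj P)
    (E' := (single X.Modules (ComplexShape.up ℤ) 0).obj ((Scheme.Modules.pullback f).obj F)) eP'
  obtain ⟨vY⟩ := nonempty_RSheafHom_value P hP J
  obtain ⟨vX⟩ := nonempty_RSheafHom_value ((pullCxF f).obj P) (isKFlat_pullback f hP) B
  let a := (DerivedCategory.homologyFunctor Y.Modules p).mapIso
    ((DCoh.RSheafHom sF).mapIso eJ.symm ≪≫ cY.symm.app _ ≪≫ vY) ≪≫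
      (DerivedCategory.homologyFunctorFactors Y.Modules p).app _
  let b := ((DerivedCategory.homologyFunctorFactors X.Modules p).app ((homCx ((pullCxF f).obj P)).obj B)).symm ≪≫
    (DerivedCategory.homologyFunctor X.Modules p).mapIso
      (vX.symm ≪≫ cX.app _ ≪≫ (DCoh.RSheafHom _).mapIso eB)
  exact ⟨(Scheme.Modules.pullback f).mapIso a ≪≫
    ((((homCx P).obj J).sc p).mapHomologyIso (Scheme.Modules.pullback f)).symm ≪≫ @asIso _ _ _ _ _ hiso ≪≫ b⟩

end GrothLib.PullHom22
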