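import Groth.Agent.Lib.DualPerf22.Main
import Groth.Agent.Lib.OX.PullbackFlat

/-! # The comparison `f^* Hom(E, J) ⟶ Hom(f^* E, B)` for flat `f` -/

set_option autoImplicit false
set_option maxHeartbeats 1000000
universe u

open CategoryTheory CategoryTheory.Limits CategoryTheory.Pretriangulated AlgebraicGeometry HomologicalComplex

attribute [local instance] HasDerivedCategory.standard

namespace GrothLib.PullHom22

open GrothLib.OX

variable {X Y : Scheme.{u}} (f : X ⟶ Y)

theorem tensorObj_map_eq_totalMap (K : CochainComplex X.Modules ℤ) {L L' : CochainComplex X.Modules ℤ} (φ : L ⟶ L') :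
    ((DCoh.tensorCx (X := X)).obj K).map φ = HomologicalComplex₂.total.map
      ((((DCoh.tensorBi (X := X)).mapBifunctorHomologicalComplex (ComplexShape.up ℤ) (ComplexShape.up ℤ)).obj K).map φ)
      (ComplexShape.up ℤ) := by
  refine Eq.trans (rfl : _ = HomologicalComplex₂.total.map
    ((((DCoh.tensorBi (X := X)).mapBifunctorHomologicalComplex (ComplexShape.up ℤ) (ComplexShape.up ℤ)).map (𝟙 K)).app L ≫
      (((DCoh.tensorBi (X := X)).mapBifunctorHomologicalComplex (ComplexShape.up ℤ) (ComplexShape.up ℤ)).obj K).map φ)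
      (ComplexShape.up ℤ)) (congrArg (fun t => HomologicalComplex₂.total.map t (ComplexShape.up ℤ)) ?_)
  rw [CategoryTheory.Functor.map_id]
  exact Category.id_comp _

theorem bicxPullTensorIso_natural₂ (K : CochainComplex Y.Modules ℤ) {L L' : CochainComplex Y.Modules ℤ} (φ : L ⟶ L') :
    (((Scheme.Modules.pullback f).mapHomologicalComplex (ComplexShape.up ℤ)).mapHomologicalComplex (ComplexShape.up ℤ)).map
        ((((DCoh.tensorBi (X := Y)).mapBifunctorHomologicalComplex (ComplexShape.up ℤ) (ComplexShape.up ℤ)).obj K).map φ) ≫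
        (bicxPullTensorIso f K L').hom =
      (bicxPullTensorIso f K L).hom ≫
        (((DCoh.tensorBi (X := X)).mapBifunctorHomologicalComplex (ComplexShape.up ℤ) (ComplexShape.up ℤ)).obj
          (((Scheme.Modules.pullback f).mapHomologicalComplex (ComplexShape.up ℤ)).obj K)).map
            (((Scheme.Modules.pullback f).mapHomologicalComplex (ComplexShape.up ℤ)).map φ) :=
  HomologicalComplex.hom_ext _ _ fun i => HomologicalComplex.hom_ext _ _ fun j =>
    pullTensorIso_natural₂ f (K.X i) (φ.f j)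

theorem pullTensorCxIso_natural₂ (K : CochainComplex Y.Modules ℤ) {L L' : CochainComplex Y.Modules ℤ} (φ : L ⟶ L') :
    (pullCxF f).map (((DCoh.tensorCx (X := Y)).obj K).map φ) ≫ (pullTensorCxIso f K L').hom =
      (pullTensorCxIso f K L).hom ≫ ((DCoh.tensorCx (X := X)).obj ((pullCxF f).obj K)).map ((pullCxF f).map φ) := by
  refine sq_trans _ (TotalMap.totalMapIso (Scheme.Modules.pullback f) _).symm
    (TotalMap.totalMapIso (Scheme.Modules.pullback f) _).symm
    (HomologicalComplex₂.total.map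
      ((((Scheme.Modules.pullback f).mapHomologicalComplex (ComplexShape.up ℤ)).mapHomologicalComplex (ComplexShape.up ℤ)).map
        ((((DCoh.tensorBi (X := Y)).mapBifunctorHomologicalComplex (ComplexShape.up ℤ) (ComplexShape.up ℤ)).obj K).map φ))
      (ComplexShape.up ℤ))
    (HomologicalComplex₂.total.mapIso (bicxPullTensorIso f K L) (ComplexShape.up ℤ))
    (HomologicalComplex₂.total.mapIso (bicxPullTensorIso f K L') (ComplexShape.up ℤ)) _ ?_ ?_
  · rw [Iso.symm_hom, Iso.symm_hom, ← cancel_epi (TotalMap.totalMapIso (Scheme.Modules.pullback f) _).hom,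
      Iso.hom_inv_id_assoc, ← Category.assoc, Iso.comp_inv_eq]
    exact ((congrArg (fun t => _ ≫ (pullCxF f).map t) (tensorObj_map_eq_totalMap K φ)).trans
      (TotalMap.totalMap_natural (Scheme.Modules.pullback f) _).symm)
  · refine (HomologicalComplex₂.total.map_comp _ _ _).symm.trans ((congrArg
      (fun t => HomologicalComplex₂.total.map t (ComplexShape.up ℤ)) (bicxPullTensorIso_natural₂ f K φ)).trans
        ((HomologicalComplex₂.total.map_comp _ _ _).trans (congrArg (_ ≫ ·) (tensorObj_map_eq_totalMap _ _).symm)))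

theorem inv_square {C : Type*} [Category C] {a a' b b' : C} {x : a ⟶ a'} {e : a ≅ b} {e' : a' ≅ b'} {y : b ⟶ b'}
    (h : x ≫ e'.hom = e.hom ≫ y) : y ≫ e'.inv = e.inv ≫ x := by
  rw [Iso.comp_inv_eq, Category.assoc, h, Iso.inv_hom_id_assoc]

/-- Transposes of a commutative square commute. -/
theorem transpose_natural {C D : Type*} [Category C] [Category D] {P Q : C ⥤ D} {R S : D ⥤ C} (adj : P ⊣ R)
    (adj' : Q ⊣ S) {a a' : C} {t : D} (τ : Q ⟶ P) (m : R.obj t ⟶ S.obj t)
    (hm : ∀ h : a ⟶ R.obj t, (adj'.homEquiv a t).symm (h ≫ m) = τ.app a ≫ (adj.homEquiv a t).symm h)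
    (f : a ⟶ a') (x : P.obj a ⟶ t) (x' : Q.obj a' ⟶ t) (k : τ.app a ≫ x = Q.map f ≫ x') :
    adj.homEquiv a t x ≫ m = f ≫ adj'.homEquiv a' t x' := by
  apply (adj'.homEquiv a t).symm.injective
  rw [hm, Equiv.symm_apply_apply, Adjunction.homEquiv_naturality_left_symm, Equiv.symm_apply_apply, k]

/-- Two out of three, for a ladder under a functor between two categories. -/
theorem two_of_three_of_squares' {C C' D : Type*} [Category C] [Abelian C] [Category C'] [Abelian C'] [Category D] [Abelian D]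
    (R : CochainComplex C' ℤ ⥤ CochainComplex D ℤ) [R.Additive] (T : CochainComplex C ℤ ⥤ CochainComplex C' ℤ)
    [T.PreservesZeroMorphisms] {a₁ a₂ a₃ : CochainComplex C ℤ} {b₁ b₂ b₃ : CochainComplex C' ℤ}
    (f : a₁ ⟶ a₂) (g : a₂ ⟶ a₃) (w : f ≫ g = 0)
    (f' : b₁ ⟶ b₂) (g' : b₂ ⟶ b₃) (w' : f' ≫ g' = 0)
    (p₁ : T.obj a₁ ⟶ b₁) (p₂ : T.obj a₂ ⟶ b₂) (p₃ : T.obj a₃ ⟶ b₃)
    (c₁ : p₁ ≫ f' = T.map f ≫ p₂) (c₂ : p₂ ≫ g' = T.map g ≫ p₃)
    (h : (((ShortComplex.mk f g w).map T).map R).ShortExact) (h' : ((ShortComplex.mk f' g' w').map R).ShortExact) :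
    (QuasiIso (R.map p₁) → QuasiIso (R.map p₂) → QuasiIso (R.map p₃)) ∧
      (QuasiIso (R.map p₁) → QuasiIso (R.map p₃) → QuasiIso (R.map p₂)) ∧
      (QuasiIso (R.map p₂) → QuasiIso (R.map p₃) → QuasiIso (R.map p₁)) :=
  quasiIso_two_of_three h h' (R.mapShortComplex.map
    (ShortComplex.homMk p₁ p₂ p₃ c₁ c₂ : (ShortComplex.mk f g w).map T ⟶ ShortComplex.mk f' g' w'))

variable (J : CochainComplex Y.Modules ℤ) {B : CochainComplex X.Modules ℤ} (β : (pullCxF f).obj J ⟶ B)

/-- `f^* Hom(E, J) ⟶ Hom(f^* E, B)`. -/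
noncomputable def chi (E : CochainComplex Y.Modules ℤ) :
    (pullCxF f).obj ((homCx E).obj J) ⟶ (homCx ((pullCxF f).obj E)).obj B :=
  (homCxAdj ((pullCxF f).obj E)).homEquiv _ B ((pullTensorCxIso f ((homCx E).obj J) E).inv ≫
    (pullCxF f).map ((homCxAdj E).counit.app J) ≫ β)

theorem chi_natural {E E' : CochainComplex Y.Modules ℤ} (g : E ⟶ E') :
    chi f J β E' ≫ homMap ((pullCxF f).map g) B = (pullCxF f).map (homMap g J) ≫ chi f J β E := by
  have h : ((DCoh.tensorCx (X := Y)).flip.map g).app ((homCx E').obj J) ≫ (homCxAdj E').counit.app J =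
      (tensR E).map (homMap g J) ≫ (homCxAdj E).counit.app J :=
    (Equiv.symm_apply_apply ((homCxAdj E).homEquiv _ J) _).symm.trans ((homCxAdj E).homEquiv_counit _ _ _)
  have k := psi_square (inv_square (pullTensorCxIso_natural₂ f ((homCx E').obj J) g))
    (inv_square (pullTensorCxIso_natural₁ f (homMap g J) E))
    ((((pullCxF f).map_comp _ _).symm.trans (congrArg _ h)).trans ((pullCxF f).map_comp _ _)) β
  exact transpose_natural (homCxAdj ((pullCxF f).obj E')) (homCxAdj ((pullCxF f).obj E))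
    ((DCoh.tensorCx (X := X)).flip.map ((pullCxF f).map g)) (homMap ((pullCxF f).map g) B)
    (fun h => homEquiv_homMap ((pullCxF f).map g) h) ((pullCxF f).map (homMap g J)) _ _ k

variable {f J}

theorem preservesLimits_of_flat [Flat f] : PreservesFiniteLimits (Scheme.Modules.pullback f) :=
  preservesFiniteLimits_pullback_of_flat f

theorem quasiIso_pullCx [Flat f] {P Q : CochainComplex Y.Modules ℤ} (α : P ⟶ Q) (hα : QuasiIso α) :
    QuasiIso ((pullCxF f).map α) := by
  haveI := preservesLimits_of_flat (f := f)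
  haveI : PreservesColimitsOfSize.{0, 0} (Scheme.Modules.pullback f) :=
    (Scheme.Modules.pullbackPushforwardAdjunction f).leftAdjoint_preservesColimits
  exact (inferInstance : QuasiIso (((Scheme.Modules.pullback f).mapHomologicalComplex (ComplexShape.up ℤ)).map α))

theorem shortExact_pullCx [Flat f] {S : ShortComplex (CochainComplex Y.Modules ℤ)} (hS : S.ShortExact) :
    (S.map (pullCxF f)).ShortExact := by
  haveI := preservesLimits_of_flat (f := f)
  haveI : PreservesColimitsOfSize.{0, 0} (Scheme.Modules.pullback f) :=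
    (Scheme.Modules.pullbackPushforwardAdjunction f).leftAdjoint_preservesColimits
  exact HomologicalComplex.shortExact_of_degreewise_shortExact _ fun n =>
    (hS.map_of_exact (HomologicalComplex.eval Y.Modules (ComplexShape.up ℤ) n)).map_of_exact (Scheme.Modules.pullback f)

theorem isZero_pullCx_homology [Flat f] {K : CochainComplex Y.Modules ℤ} {i : ℤ} (h : IsZero (K.homology i)) :
    IsZero (((pullCxF f).obj K).homology i) := by
  haveI := preservesLimits_of_flat (f := f)
  haveI : PreservesColimitsOfSize.{0, 0} (Scheme.Modules.pullback f) :=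
    (Scheme.Modules.pullbackPushforwardAdjunction f).leftAdjoint_preservesColimits
  exact ((Scheme.Modules.pullback f).map_isZero h).of_iso ((K.sc i).mapHomologyIso (Scheme.Modules.pullback f))

theorem shortExact_resCx {U : Scheme.{u}} (i : U ⟶ X) [IsOpenImmersion i]
    {S : ShortComplex (CochainComplex X.Modules ℤ)} (hS : S.ShortExact) : (S.map (resCx i)).ShortExact :=
  HomologicalComplex.shortExact_of_degreewise_shortExact _ fun n =>
    (hS.map_of_exact (HomologicalComplex.eval X.Modules (ComplexShape.up ℤ) n)).map_of_exact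
      (Scheme.Modules.restrictFunctor i)

variable {U W : Scheme.{u}} (j : U ⟶ Y) [IsOpenImmersion j] (i : W ⟶ X) [IsOpenImmersion i]

theorem quasiIso_resCx_pullCx {f' : W ⟶ U} [Flat f'] (w : f' ≫ j = i ≫ f) {P Q : CochainComplex Y.Modules ℤ}
    (α : P ⟶ Q) (hα : QuasiIso ((resCx j).map α)) : QuasiIso ((resCx i).map ((pullCxF f).map α)) := by
  let c : resCx j ⋙ pullCxF f' ≅ pullCxF f ⋙ resCx i :=
    NatIso.mapHomologicalComplex (Functor.isoWhiskerRight (Scheme.Modules.restrictFunctorIsoPullback j) _ ≪≫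
      Scheme.Modules.pullbackComp f' j ≪≫ Scheme.Modules.pullbackCongr w ≪≫
      (Scheme.Modules.pullbackComp i f).symm ≪≫
      Functor.isoWhiskerLeft _ (Scheme.Modules.restrictFunctorIsoPullback i).symm) _
  exact (quasiIso_iff_of_arrow_mk_iso _ _ (Arrow.isoMk (c.app P) (c.app Q) (c.hom.naturality α).symm)).1
    (quasiIso_pullCx ((resCx j).map α) hα)

theorem quasiIso_resCx_chi_unit [Flat f] [hβ : QuasiIso β] [B.IsKInjective] (hB : ∀ n, Injective (B.X n)) :
    QuasiIso ((resCx i).map (chi f J β (unitCx Y))) := by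
  let O := unitCx Y
  let P := (pullCxF f).obj O
  let e : unitCx X ≅ P :=
    (single _ _ 0).mapIso (pullUnitIso f).symm ≪≫
      ((singleMapHomologicalComplex (Scheme.Modules.pullback f) (ComplexShape.up ℤ) 0).app _).symm
  have h1 : (tensR O).IsEquivalence := Functor.isEquivalence_of_iso singleUnitNatIso.symm
  have : IsIso (homCxAdj O).counit := inferInstance
  let v := (pullTensorCxIso f ((homCx O).obj J) O).inv ≫ (pullCxF f).map ((homCxAdj O).counit.app J) ≫ β
  have hv : QuasiIso v :=
    have : QuasiIso ((pullCxF f).map ((homCxAdj O).counit.app J)) := inferInstance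
    inferInstanceAs (QuasiIso (_ ≫ _ ≫ β))
  let v' := ((DCoh.tensorCx (X := X)).flip.map e.hom).app ((pullCxF f).obj ((homCx O).obj J)) ≫ v
  have hv' : QuasiIso v' :=
    have : IsIso (((DCoh.tensorCx (X := X)).flip.map e.hom).app ((pullCxF f).obj ((homCx O).obj J))) := inferInstance
    quasiIso_comp _ _
  have key : chi f J β O ≫ homMap e.hom B = (homCxAdj (unitCx X)).homEquiv _ B v' := by
    apply ((homCxAdj (unitCx X)).homEquiv _ B).symm.injective
    exact (homEquiv_homMap e.hom _).trans
      ((congrArg (_ ≫ ·) (Equiv.symm_apply_apply _ _)).trans (Equiv.symm_apply_apply _ _).symm)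
  have h3 := DualPerf22.quasiIso_resCx_homMap i e.hom (quasiIso_resCx_map i e.hom inferInstance) B hB
  have h4 : QuasiIso ((resCx i).map (chi f J β O ≫ homMap e.hom B)) := by
    rw [key]
    exact quasiIso_resCx_map i _ (DualPerf22.quasiIso_homEquiv_unit v')
  rw [Functor.map_comp] at h4
  exact (quasiIso_iff_comp_right _ _).1 h4

theorem quasiIso_resCx_chi_iff [Flat f] {f' : W ⟶ U} [Flat f'] (w : f' ≫ j = i ≫ f)
    [J.IsKInjective] [B.IsKInjective] (hJ : ∀ n, Injective (J.X n)) (hB : ∀ n, Injective (B.X n))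
    {E E' : CochainComplex Y.Modules ℤ} (g : E ⟶ E') (hg : QuasiIso ((resCx j).map g)) :
    QuasiIso ((resCx i).map (chi f J β E')) ↔ QuasiIso ((resCx i).map (chi f J β E)) := by
  have h1 := DualPerf22.quasiIso_resCx_homMap i ((pullCxF f).map g) (quasiIso_resCx_pullCx j i w g hg) B hB
  have h2 := quasiIso_resCx_pullCx j i w (homMap g J) (DualPerf22.quasiIso_resCx_homMap j g hg J hJ)
  have h := congrArg (resCx i).map (chi_natural f J β g)
  rw [Functor.map_comp, Functor.map_comp] at h
  rw [← quasiIso_iff_comp_right _ ((resCx i).map (homMap ((pullCxF f).map g) B)), h, quasiIso_iff_comp_left]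

theorem chi_ext [Flat f] [J.IsKInjective] [B.IsKInjective] (hJ : ∀ n, Injective (J.X n)) (hB : ∀ n, Injective (B.X n))
    {S : ShortComplex (CochainComplex Y.Modules ℤ)} (hS : S.ShortExact) :
    (QuasiIso ((resCx i).map (chi f J β S.X₃)) → QuasiIso ((resCx i).map (chi f J β S.X₂)) → QuasiIso ((resCx i).map (chi f J β S.X₁))) ∧
      (QuasiIso ((resCx i).map (chi f J β S.X₃)) → QuasiIso ((resCx i).map (chi f J β S.X₁)) → QuasiIso ((resCx i).map (chi f J β S.X₂))) ∧
      (QuasiIso ((resCx i).map (chi f J β S.X₂)) → QuasiIso ((resCx i).map (chi f J β S.X₁)) → QuasiIso ((resCx i).map (chi f J β S.X₃))) :=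
  two_of_three_of_squares' (resCx i) (pullCxF f) (homMap S.g J) (homMap S.f J) (homMap_comp_zero S J)
    (homMap ((pullCxF f).map S.g) B) (homMap ((pullCxF f).map S.f) B) (homMap_comp_zero (S.map (pullCxF f)) B)
    (chi f J β S.X₃) (chi f J β S.X₂) (chi f J β S.X₁) (chi_natural f J β S.g) (chi_natural f J β S.f)
    (shortExact_resCx i (shortExact_pullCx (DualPerf22.homSeq_shortExact hS J hJ)))
    (shortExact_resCx i (DualPerf22.homSeq_shortExact (shortExact_pullCx hS) B hB))

theorem devissage_chi [Flat f] {f' : W ⟶ U} [Flat f'] (w : f' ≫ j = i ≫ f)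
    [J.IsKInjective] [B.IsKInjective] (hJ : ∀ n, Injective (J.X n)) (hB : ∀ n, Injective (B.X n)) [QuasiIso β] :
    Devissage (X := U) fun E => QuasiIso ((resCx i).map (chi f J β ((jzCx j).obj E))) where
  iso {E E'} e h := (quasiIso_resCx_chi_iff β j i w hJ hB ((jzCx j).map e.hom)
    (quasiIso_resCx_map j ((jzCx j).map e.hom) inferInstance)).2 h
  contractible {E} h := by
    have h' : Homotopy (𝟙 ((jzCx j).obj E)) 0 := (Homotopy.ofEq ((jzCx j).map_id E).symm).trans
      (((CxOX.extZero j).mapHomotopy h).trans (Homotopy.ofEq ((jzCx j).map_zero E E)))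
    have h'' : Homotopy (𝟙 ((pullCxF f).obj ((jzCx j).obj E))) 0 := (Homotopy.ofEq ((pullCxF f).map_id _).symm).trans
      (((Scheme.Modules.pullback f).mapHomotopy h').trans (Homotopy.ofEq ((pullCxF f).map_zero _ _)))
    exact quasiIso_of_acyclic_both _
      (acyclic_resCx i fun k => (HomologicalComplex.exactAt_iff_isZero_homology _ _).2 (isZero_pullCx_homology
        ((HomologicalComplex.exactAt_iff_isZero_homology _ _).1 (acyclic_homCx_of_contractible h' J k))))
      (acyclic_resCx i (acyclic_homCx_of_contractible h'' B))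
  base := by
    let e : unitCx U ≅ (resCx j).obj (unitCx Y) :=
      (single _ _ 0).mapIso (((Scheme.Modules.restrictFunctorIsoPullback j).app _) ≪≫ pullUnitIso j).symm ≪≫
        ((singleMapHomologicalComplex (Scheme.Modules.restrictFunctor j) (ComplexShape.up ℤ) 0).app _).symm
    let ε : (jzCx j).obj ((resCx j).obj (unitCx Y)) ⟶ unitCx Y :=
      (KInj.mapComplexAdj (CxOX.extZeroAdj j) (ComplexShape.up ℤ)).counit.app (unitCx Y)
    have hε : IsIso ((resCx j).map ε) :=
      have : ∀ n, IsIso (((resCx j).map ε).f n) := fun n => isIso_restrict_epsZ j ((unitCx Y).X n)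
      HomologicalComplex.Hom.isIso_of_components _
    have hq : QuasiIso ((resCx j).map ((jzCx j).map e.hom ≫ ε)) := by
      rw [Functor.map_comp]
      infer_instance
    exact (quasiIso_resCx_chi_iff β j i w hJ hB ((jzCx j).map e.hom ≫ ε) hq).1 (quasiIso_resCx_chi_unit β i hB)
  ext₁ {S} σ h₂ h₃ := (chi_ext β i hJ hB (S := S.map (jzCx j))
    (HomologicalComplex.shortExact_of_degreewise_shortExact _ fun q => ((σ q).map (CxOX.extZero j)).shortExact)).1 h₃ h₂
  ext₂ {S} σ h₁ h₃ := (chi_ext β i hJ hB (S := S.map (jzCx j))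
    (HomologicalComplex.shortExact_of_degreewise_shortExact _ fun q => ((σ q).map (CxOX.extZero j)).shortExact)).2.1 h₃ h₁
  ext₃ {S} σ h₁ h₂ := (chi_ext β i hJ hB (S := S.map (jzCx j))
    (HomologicalComplex.shortExact_of_degreewise_shortExact _ fun q => ((σ q).map (CxOX.extZero j)).shortExact)).2.2 h₂ h₁

end GrothLib.PullHom22
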